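import Groth.Agent.Lib.PrimeAlg2.Chain
import Groth.Agent.Lib.NormNagata9.Basic
import Groth.Agent.Lib.CharRing.Nagata
import Groth.Agent.Lib.N2.FiniteType
import Groth.Agent.Lib.RegLoc.Normal
import Groth.Agent.Lib.CMFree.Regular
import Groth.Agent.Lib.CurveLocus.Basic
import Groth.Agent.S12460
import Groth.Agent.S2620
import Groth.Agent.S7421
import Groth.Agent.S0415

/-!
# The seminormalisation of a curve is finite and birational
-/

set_option autoImplicit false
set_option linter.all false
set_option backward.isDefEq.respectTransparency false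

universe u

open CategoryTheory Limits AlgebraicGeometry TopologicalSpace

namespace GrothLib.PrimeAlg2

theorem isOpen_regular {κ : Type u} [Field κ] {C : Scheme.{u}} (g : C ⟶ Spec (CommRingCat.of κ))
    [LocallyOfFiniteType g] : IsOpen {x : C | IsRegularLocalRing (C.presheaf.stalk x)} := by
  refine (Groth.Agent.S12460.result (Spec (CommRingCat.of κ))).2.2 (fun x => ⟨⟨⊤, isAffineOpen_top _⟩, trivial, ?_⟩)
    C g inferInstance
  let e := (Scheme.ΓSpecIso (CommRingCat.of κ)).commRingCatIsoToRingEquiv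
  haveI : IsNoetherianRing Γ(Spec (CommRingCat.of κ), ⊤) := isNoetherianRing_of_ringEquiv κ e.symm
  refine Groth.Agent.S2620.result _ ?_ ?_
  · haveI : Subsingleton (PrimeSpectrum Γ(Spec (CommRingCat.of κ), ⊤)) :=
      (PrimeSpectrum.comap_injective_of_surjective e.symm.toRingHom e.symm.surjective).subsingleton
    refine Set.Subsingleton.finite fun I hI J hJ => ?_
    exact congrArg PrimeSpectrum.asIdeal
      (Subsingleton.elim (⟨I, Ideal.IsMaximal.isPrime hI⟩ : PrimeSpectrum _) ⟨J, Ideal.IsMaximal.isPrime hJ⟩)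
  · rw [ringKrullDim_eq_of_ringEquiv e, ringKrullDim_eq_zero_of_field]
    exact zero_le_one

/-- Generic points of a reduced scheme are regular. -/
theorem isRegular_of_generic {C : Scheme.{u}} [IsLocallyNoetherian C] [IsReduced C] (x : C)
    (hx : closure ({x} : Set C) ∈ irreducibleComponents (C : Type u)) :
    IsRegularLocalRing (C.presheaf.stalk x) := by
  obtain ⟨W, hW, hxW, -⟩ := exists_isAffineOpen_mem_and_subset (X := C) (x := x) (U := ⊤) trivial
  obtain ⟨p, rfl⟩ : x ∈ Set.range hW.fromSpec := by rw [hW.range_fromSpec]; exact hxW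
  haveI : IsNoetherianRing Γ(C, W) := IsLocallyNoetherian.component_noetherian ⟨W, hW⟩
  have hmin : p.asIdeal ∈ minimalPrimes Γ(C, W) := by
    refine ⟨⟨p.2, bot_le⟩, fun q hq hqp => ?_⟩
    haveI := hq.1
    let q' : PrimeSpectrum Γ(C, W) := ⟨q, hq.1⟩
    have hsp : hW.fromSpec q' ⤳ hW.fromSpec p :=
      ((PrimeSpectrum.le_iff_specializes q' p).1 hqp).map hW.fromSpec.continuous
    have h1 := hx.2 isIrreducible_singleton.closure hsp.closure_subset
    have h2 : hW.fromSpec p ⤳ hW.fromSpec q' := specializes_iff_mem_closure.2 (h1 (subset_closure rfl))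
    exact ((PrimeSpectrum.le_iff_specializes p q').2 (hW.fromSpec.isOpenEmbedding.isInducing.specializes_iff.1 h2) : _)
  letI := TopCat.Presheaf.algebra_section_stalk C.presheaf ⟨hW.fromSpec p, hxW⟩
  haveI := hW.isLocalization_stalk' p hxW
  haveI : Ring.KrullDimLE 0 (C.presheaf.stalk (hW.fromSpec p)) := by
    rw [Ring.krullDimLE_iff, IsLocalization.AtPrime.ringKrullDim_eq_height p.asIdeal,
      Ideal.height_eq_zero_iff.2 hmin]
    rfl
  have hf : IsField (C.presheaf.stalk (hW.fromSpec p)) :=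
    Ring.KrullDimLE.isField_of_isReduced
  letI := hf.toField
  infer_instance

theorem finite_of_isClosed_of_dim {C : Scheme.{u}} [NoetherianSpace C]
    (hdim : ∀ W ∈ irreducibleComponents (C : Type u), topologicalKrullDim W = 1) {Z : Set C} (hZ : IsClosed Z)
    (hgen : ∀ x ∈ Z, closure ({x} : Set C) ∉ irreducibleComponents (C : Type u)) :
    Z.Finite ∧ ∀ x ∈ Z, IsClosed ({x} : Set C) := by
  have hd : topologicalKrullDim C ≤ 1 :=
    CurveLocus.topologicalKrullDim_le_of_components 1 fun W hW => (hdim W hW).le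
  have hcl : ∀ x ∈ Z, IsClosed ({x} : Set C) := by
    intro x hx
    by_contra hc
    obtain ⟨y, hy, hyne⟩ : ∃ y ∈ closure ({x} : Set C), y ≠ x := by
      by_contra h
      push Not at h
      exact hc (closure_subset_iff_isClosed.1 fun y hy => h y hy)
    obtain ⟨W, hW, hxW⟩ := exists_mem_irreducibleComponents_subset_of_isIrreducible _
      (isIrreducible_singleton (x := x)).closure
    have hWc := isClosed_of_mem_irreducibleComponents W hW
    let a : IrreducibleCloseds C := ⟨closure {y}, isIrreducible_singleton.closure, isClosed_closure⟩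
    let b : IrreducibleCloseds C := ⟨closure {x}, isIrreducible_singleton.closure, isClosed_closure⟩
    let c : IrreducibleCloseds C := ⟨W, hW.1, hWc⟩
    have hab : a < b := by
      refine lt_of_le_of_ne (isClosed_closure.closure_subset_iff.2 (Set.singleton_subset_iff.2 hy)) fun e => hyne ?_
      have h1 : x ∈ closure ({y} : Set C) := by
        have : x ∈ (b : Set C) := subset_closure rfl
        rwa [← e] at this
      exact ((specializes_iff_mem_closure.2 h1).antisymm (specializes_iff_mem_closure.2 hy)).eq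
    have hbc : b < c := lt_of_le_of_ne hxW fun e => hgen x hx (by
      have : (b : Set C) = W := congrArg (fun z : IrreducibleCloseds C => (z : Set C)) e
      rw [show closure ({x} : Set C) = W from this]; exact hW)
    let s : LTSeries (IrreducibleCloseds C) :=
      ((RelSeries.singleton _ a).snoc b hab).snoc c (by rw [RelSeries.last_snoc]; exact hbc)
    have := (Order.LTSeries.length_le_krullDim s).trans hd
    norm_cast at this
  refine ⟨?_, hcl⟩
  haveI : T1Space Z := ⟨fun z => by
    have := (hcl z.1 z.2).preimage (continuous_subtype_val (p := (· ∈ Z)))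
    rwa [show (Subtype.val ⁻¹' {z.1} : Set Z) = {z} from Set.ext fun w => Subtype.ext_iff.symm] at this⟩
  haveI : QuasiSober Z := hZ.isClosedEmbedding_subtypeVal.quasiSober
  haveI : Finite Z := by
    refine Set.finite_univ_iff.1 (((NoetherianSpace.finite_irreducibleComponents (α := Z)).biUnion (t := fun W => W)
      fun W hW => ?_).subset fun z _ => Set.mem_iUnion₂.2
        ⟨irreducibleComponent z, irreducibleComponent_mem_irreducibleComponents z, mem_irreducibleComponent⟩)
    obtain ⟨w, hw⟩ := QuasiSober.sober hW.1 (isClosed_of_mem_irreducibleComponents W hW)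
    rw [← hw.def, closure_singleton]
    exact Set.finite_singleton w
  exact Set.toFinite Z

variable {κ : Type u} [Field κ] {C C' : Scheme.{u}} (g : C ⟶ Spec (CommRingCat.of κ)) [LocallyOfFiniteType g]
  [QuasiCompact g] [IsReduced C]
  (hdimC : ∀ W ∈ irreducibleComponents (C : Type u), topologicalKrullDim W = 1)
  (ς : C' ⟶ C) (hς : HTop.IsSeminormalization ς) (hC' : HTop.IsSeminormal C')

include g hdimC hς hC' in
theorem seminormalization_facts :
    ∃ U : C.Opens, ((U : Set C)ᶜ).Finite ∧ (∀ x ∉ U, IsClosed ({x} : Set C)) ∧ IsIso (ς ∣_ U) ∧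
      IsFinite ς ∧ IsSchemeTheoreticallyDominant ς ∧ Function.Injective ς ∧ HTop.ResidueFieldsIso ς := by
  haveI := LocallyOfFiniteType.isLocallyNoetherian g
  haveI : CompactSpace C := QuasiCompact.compactSpace_of_compactSpace g
  haveI : IsNoetherian C := ⟨⟩
  haveI : IsReduced C' := Groth.Agent.S7421.result.2 C' hC'
  obtain ⟨hint, hui, hsurj⟩ := (Groth.Agent.S0415.result ς).1 hς.1.1
  haveI := hint
  haveI := hui
  haveI := hsurj
  let U : C.Opens := ⟨_, isOpen_regular g⟩
  have hZ := finite_of_isClosed_of_dim hdimC U.2.isClosed_compl fun x hx hgen => hx (isRegular_of_generic x hgen)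
  have hUn : Pi1.IsNormalScheme (U : Scheme) := fun u => by
    haveI : IsRegularLocalRing (C.presheaf.stalk u.1) := u.2
    haveI := CMFree.isDomain_of_isRegularLocalRing (C.presheaf.stalk u.1)
    haveI := RegLoc.isIntegrallyClosed_of_isRegularLocalRing (C.presheaf.stalk u.1)
    let e := (U.stalkIso u).commRingCatIsoToRingEquiv
    exact ⟨e.toMulEquiv.isDomain _, IsIntegrallyClosed.of_equiv e.symm⟩
  have hπ := SN25.isUnivHomeo_restrict ς hς.1.1 U
  have hπr := SN25.residueFieldsIso_restrict ς hς.1.2 U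
  obtain ⟨s, hs, -⟩ := SN25.existsUnique_lift (SN25.isSeminormal_of_isNormal hUn) (ς ∣_ U) hπ hπr (𝟙 _)
  haveI hiso : IsIso (ς ∣_ U) := by
    refine ⟨s, ?_, hs⟩
    obtain ⟨m, -, hm⟩ := SN25.existsUnique_lift (SN25.isSeminormal_opens hC' (ς ⁻¹ᵁ U)) (ς ∣_ U) hπ hπr (ς ∣_ U)
    exact (hm _ (by simp [hs])).trans (hm (𝟙 _) (Category.id_comp _)).symm
  haveI : IsSchemeTheoreticallyDominant ς := .of_isDominant ς
  refine ⟨U, hZ.1, hZ.2, hiso, ?_, inferInstance, ς.injective, hς.1.2⟩
  -- finiteness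
  have hUd : Dense (U : Set C) := by
    intro x
    obtain ⟨η, hη⟩ := QuasiSober.sober (isIrreducible_irreducibleComponent (x := x)) isClosed_irreducibleComponent
    have hηU : η ∈ U := isRegular_of_generic η (hη.def ▸ irreducibleComponent_mem_irreducibleComponents x)
    exact closure_mono (Set.singleton_subset_iff.2 hηU) (hη.def.symm ▸ mem_irreducibleComponent)
  haveI : QuasiCompact (ς ⁻¹ᵁ U).ι :=
    MorphismProperty.of_isPullback (isPullback_morphismRestrict ς U).flip.flip inferInstance
  haveI : IsDominant (ς ⁻¹ᵁ U).ι := by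
    refine ⟨?_⟩
    rw [DenseRange, Scheme.Opens.range_ι]
    exact hUd.preimage (isHomeomorph_iff_continuous_isClosedMap_bijective.2
      ⟨ς.continuous, ς.isClosedMap, ς.injective, ς.surjective⟩).isOpenMap
  haveI : IsSchemeTheoreticallyDominant (ς ⁻¹ᵁ U).ι := .of_isDominant _
  let f := (ς ⁻¹ᵁ U).ι ≫ ς
  have hf : f = (ς ∣_ U) ≫ U.ι := (morphismRestrict_ι ς U).symm
  haveI : LocallyOfFiniteType f := hf ▸ inferInstance
  haveI : IsReduced (ς ⁻¹ᵁ U : Scheme) := inferInstance
  have hN : ∀ V : C.affineOpens, CAlg.IsNagata Γ(C, V) := fun V => by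
    obtain ⟨φ, hφ⟩ := Spec.map_surjective (V.2.fromSpec ≫ g)
    letI : Algebra κ Γ(C, V.1) := φ.hom.toAlgebra
    haveI : Algebra.FiniteType κ Γ(C, V.1) := by
      have h1 : LocallyOfFiniteType (Spec.map φ) := hφ ▸ inferInstance
      exact HasRingHomProperty.Spec_iff.mp h1
    exact GrothLib.N2.isNagata_of_finiteType (GrothLib.CharRing.isNagata_field (K := κ)) _
  haveI := NormNagata9.isFinite_fromNormalization_of_finiteType f hN
  refine (isFinite_iff _).2 ⟨inferInstance, fun W hW => ?_⟩
  letI : Algebra Γ(C, W) Γ(↑(ς ⁻¹ᵁ U), f ⁻¹ᵁ W) := (f.app W).hom.toAlgebra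
  letI : Algebra Γ(C, W) Γ(C', ς ⁻¹ᵁ W) := (ς.app W).hom.toAlgebra
  haveI : IsNoetherianRing Γ(C, W) := IsLocallyNoetherian.component_noetherian ⟨W, hW⟩
  haveI : Module.Finite Γ(C, W) (integralClosure Γ(C, W) Γ(↑(ς ⁻¹ᵁ U), f ⁻¹ᵁ W)) := by
    rw [← RingHom.finite_algebraMap]
    have h1 := IsFinite.finite_app f.fromNormalization W hW
    have h2 := (RingHom.Finite.of_surjective (f.normalizationObjIso hW).hom.hom
      (ConcreteCategory.bijective_of_isIso (f.normalizationObjIso hW).hom).2).comp h1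
    rw [f.fromNormalization_app hW, CommRingCat.hom_comp, ← RingHom.comp_assoc, ← CommRingCat.hom_comp,
      Iso.inv_hom_id] at h2
    exact h2
  haveI : Algebra.IsIntegral Γ(C, W) Γ(C', ς ⁻¹ᵁ W) := ⟨ς.isIntegral_app W hW⟩
  let ψ : Γ(C', ς ⁻¹ᵁ W) →ₐ[Γ(C, W)] Γ(↑(ς ⁻¹ᵁ U), f ⁻¹ᵁ W) :=
    { ((ς ⁻¹ᵁ U).ι.app (ς ⁻¹ᵁ W)).hom with commutes' := fun r => rfl }
  have hψ : ∀ b, ψ b ∈ integralClosure Γ(C, W) Γ(↑(ς ⁻¹ᵁ U), f ⁻¹ᵁ W) := fun b =>
    (Algebra.IsIntegral.isIntegral b).map ψ
  exact Module.Finite.of_injective (ψ.codRestrict _ hψ).toLinearMap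
    fun b c h => (ς ⁻¹ᵁ U).ι.app_injective _ (congrArg Subtype.val h)

end GrothLib.PrimeAlg2
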