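import Groth.Agent.Lib.PrimeAlg2.Step
import Mathlib.CategoryTheory.ComposableArrows.Basic

/-!
# Chains of pushouts along prime algebras
-/

set_option autoImplicit false
set_option linter.all false
set_option backward.isDefEq.respectTransparency false
set_option maxHeartbeats 800000

universe u

open CategoryTheory Limits AlgebraicGeometry TopologicalSpace Opposite

namespace GrothLib.PrimeAlg2

/-- The length of the cokernel of a ring map. -/
noncomputable def cokerLen {A B : Type u} [CommRing A] [CommRing B] (f : A →+* B) : ℕ∞ :=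
  letI := f.toAlgebra
  Module.length A (B ⧸ LinearMap.range (Algebra.linearMap A B))

theorem cokerLen_le {A B B₁ : Type u} [CommRing A] [CommRing B] [CommRing B₁] (f : A →+* B₁) (g : B₁ →+* B)
    (hg : Function.Injective g) : cokerLen f ≤ cokerLen (g.comp f) ∧
      (¬ Function.Surjective g → cokerLen (g.comp f) ≠ ⊤ → cokerLen f < cokerLen (g.comp f)) := by
  letI := f.toAlgebra
  letI := (g.comp f).toAlgebra
  let l : B₁ →ₐ[A] B := ⟨g, fun _ => rfl⟩
  let R₁ := LinearMap.range (Algebra.linearMap A B₁)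
  let R := LinearMap.range (Algebra.linearMap A B)
  let q : (B₁ ⧸ R₁) →ₗ[A] (B ⧸ R) := R₁.mapQ R l.toLinearMap (by rintro _ ⟨a, rfl⟩; exact ⟨a, rfl⟩)
  have hq : Function.Injective q := by
    rw [injective_iff_map_eq_zero]
    intro y hy
    obtain ⟨b, rfl⟩ := R₁.mkQ_surjective y
    rw [Submodule.mkQ_apply, Submodule.mapQ_apply, Submodule.Quotient.mk_eq_zero] at hy
    obtain ⟨a, ha⟩ := hy
    exact (Submodule.Quotient.mk_eq_zero _).2 ⟨a, hg ha⟩
  change Module.length A (B₁ ⧸ R₁) ≤ Module.length A (B ⧸ R) ∧ _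
  refine ⟨Module.length_le_of_injective q hq, fun hs htop => ?_⟩
  change Module.length A (B₁ ⧸ R₁) < Module.length A (B ⧸ R)
  have hfl : IsFiniteLength A (B ⧸ R) := Module.length_ne_top_iff.1 htop
  haveI := (isFiniteLength_iff_isNoetherian_isArtinian.1 hfl).1
  haveI := (isFiniteLength_iff_isNoetherian_isArtinian.1 hfl).2
  rw [(LinearEquiv.ofInjective q hq).length_eq]
  refine Submodule.length_lt fun htopq => hs fun b => ?_
  obtain ⟨y, hy⟩ : R.mkQ b ∈ LinearMap.range q := htopq ▸ trivial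
  obtain ⟨b₁, rfl⟩ := R₁.mkQ_surjective y
  rw [Submodule.mkQ_apply, Submodule.mapQ_apply, Submodule.mkQ_apply, Submodule.Quotient.eq] at hy
  obtain ⟨a, ha⟩ := hy
  refine ⟨b₁ - f a, ?_⟩
  rw [map_sub]
  change g b₁ - g (f a) = b
  have : g (f a) = g b₁ - b := ha
  rw [this, sub_sub_cancel]

theorem cokerLen_ne_top {A B : Type u} [CommRing A] [CommRing B] [IsNoetherianRing A] (f : A →+* B)
    (hfin : f.Finite)
    (hmax : letI := f.toAlgebra; ∀ q : Ideal A, q.IsPrime → SemiCond2.cond A B ≤ q → q.IsMaximal) :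
    cokerLen f ≠ ⊤ := by
  letI := f.toAlgebra
  haveI : Module.Finite A B := hfin
  let c := SemiCond2.cond A B
  let R := LinearMap.range (Algebra.linearMap A B)
  haveI : Ring.KrullDimLE 0 (A ⧸ c) := by
    rw [Ring.krullDimLE_zero_iff]
    intro I hI
    haveI := hI
    have h1 := hmax (I.comap (Ideal.Quotient.mk c)) inferInstance (fun a ha => by
      rw [Ideal.mem_comap, Ideal.Quotient.eq_zero_iff_mem.2 ha]; exact zero_mem _)
    refine ⟨⟨hI.ne_top, fun J' hJ' => ?_⟩⟩
    have hlt : I.comap (Ideal.Quotient.mk c) < J'.comap (Ideal.Quotient.mk c) := by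
      obtain ⟨hle, hne⟩ := lt_iff_le_and_ne.1 hJ'
      refine lt_of_le_of_ne (Ideal.comap_mono hle) fun e => hne ?_
      exact Ideal.comap_injective_of_surjective _ Ideal.Quotient.mk_surjective e
    have h3 := h1.1.2 _ hlt
    rw [← Ideal.map_comap_of_surjective (Ideal.Quotient.mk c) Ideal.Quotient.mk_surjective J', h3, Ideal.map_top]
  haveI : IsArtinianRing (A ⧸ c) := isArtinianRing_iff_krullDimLE_zero.2 inferInstance
  haveI : IsArtinian A (A ⧸ c) := isArtinian_of_surjective_algebraMap (Ideal.Quotient.mk_surjective (I := c))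
  obtain ⟨n, s, hs⟩ := Module.Finite.exists_fin (R := A) (M := B ⧸ R)
  have hkill : ∀ (i : Fin n), c ≤ LinearMap.ker ((LinearMap.id (R := A) (M := A)).smulRight (s i)) := fun i a ha => by
    obtain ⟨b, hb⟩ := R.mkQ_surjective (s i)
    rw [LinearMap.mem_ker, LinearMap.smulRight_apply, LinearMap.id_apply, ← hb, ← map_smul, Submodule.mkQ_apply,
      Submodule.Quotient.mk_eq_zero, Algebra.smul_def]
    exact SemiCond2.mem_cond.1 ha b
  let π : (Fin n → A ⧸ c) →ₗ[A] B ⧸ R :=
    ∑ i, (c.liftQ ((LinearMap.id (R := A) (M := A)).smulRight (s i)) (hkill i)).comp (LinearMap.proj i)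
  have hπ : Function.Surjective π := by
    rw [← LinearMap.range_eq_top, eq_top_iff, ← hs, Submodule.span_le]
    rintro _ ⟨i, rfl⟩
    refine ⟨Pi.single i (Ideal.Quotient.mk c 1), ?_⟩
    simp only [π, LinearMap.sum_apply, LinearMap.comp_apply, LinearMap.proj_apply]
    rw [Finset.sum_eq_single i (fun j _ hj => by rw [Pi.single_eq_of_ne hj, map_zero])
      (fun h => absurd (Finset.mem_univ i) h), Pi.single_eq_same]
    exact one_smul A (s i)
  haveI : IsArtinian A (B ⧸ R) := isArtinian_of_surjective _ π hπ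
  exact Module.length_ne_top

variable {X' : Scheme.{u}}

/-- A chain of steps ending at a given morphism. -/
def HasChain (H : Prop) {Y : Scheme.{u}} (γ : Y ⟶ X') : Prop :=
  ∃ (n : ℕ) (F : ComposableArrows Scheme.{u} n) (e : F.left ≅ Y) (e' : F.right ≅ X'),
    e.inv ≫ F.hom ≫ e'.hom = γ ∧ ∀ i : Fin n, IsStep H (F.map (homOfLE (Fin.castSucc_lt_succ (i := i)).le))

theorem IsStep.mono {H H' : Prop} (h : H' → H) {P Q : Scheme.{u}} {a : P ⟶ Q} (hs : IsStep H a) : IsStep H' a := by
  obtain ⟨K, _, A, _, _, hs, j, b, hj, hb, hp, hH⟩ := hs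
  exact ⟨K, ‹_›, A, ‹_›, ‹_›, hs, j, b, hj, hb, hp, fun h' => hH (h h')⟩

theorem hasChain_cons {H : Prop} {Y Y₁ : Scheme.{u}} {γ₁ : Y₁ ⟶ X'} (hc : HasChain H γ₁) (a : Y ⟶ Y₁)
    (ha : IsStep H a) : HasChain H (a ≫ γ₁) := by
  obtain ⟨n, G, e, e', hG, hsteps⟩ := hc
  refine ⟨n + 1, G.precomp (a ≫ e.inv), Iso.refl _, e', ?_, fun i => ?_⟩
  · have hh : (G.precomp (a ≫ e.inv)).hom = (a ≫ e.inv) ≫ G.hom := by
      cases n with
      | zero => exact ((congrArg (fun m => (a ≫ e.inv) ≫ m) (G.map_id _)).trans (Category.comp_id _)).symm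
      | succ m => rfl
    change 𝟙 _ ≫ (G.precomp (a ≫ e.inv)).hom ≫ e'.hom = a ≫ γ₁
    rw [Category.id_comp, hh, Category.assoc, Category.assoc, hG]
  · obtain ⟨i, hi⟩ := i
    cases i with
    | zero => exact ha.comp_iso e.symm
    | succ i => exact hsteps ⟨i, by omega⟩

theorem hasChain_finite (H : Prop) [IsLocallyNoetherian X'] (U : X'.Opens) (hU : ((U : Set X')ᶜ).Finite)
    (hcl : ∀ x ∉ U, IsClosed ({x} : Set X')) {Y : Scheme.{u}} (γ : Y ⟶ X') [IsFinite γ]
    [IsSchemeTheoreticallyDominant γ] [IsIso (γ ∣_ U)] (hH : H → Function.Injective γ ∧ HTop.ResidueFieldsIso γ) :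
    HasChain H γ := by
  classical
  let S := {x : X' // x ∉ U}
  haveI : Finite S := hU.to_subtype
  haveI := Fintype.ofFinite S
  have hW : ∀ s : S, ∃ W : X'.Opens, IsAffineOpen W ∧ s.1 ∈ W ∧ ∀ y ∈ W, y ∉ U → y = s.1 := by
    intro s
    let O : X'.Opens := ⟨((U : Set X')ᶜ \ {s.1})ᶜ, by
      refine IsClosed.isOpen_compl (self := ?_)
      rw [← Set.biUnion_of_singleton ((U : Set X')ᶜ \ {s.1})]
      exact (hU.subset Set.diff_subset).isClosed_biUnion fun y hy => hcl y hy.1⟩
    obtain ⟨W, hW, hsW, hWO⟩ := exists_isAffineOpen_mem_and_subset (X := X') (x := s.1) (U := O)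
      (fun h => h.2 rfl)
    exact ⟨W, hW, hsW, fun y hy hyU => by_contra fun hne => hWO hy ⟨hyU, hne⟩⟩
  choose W hW hsW hWU using hW
  suffices key : ∀ (N : ℕ) {Y : Scheme.{u}} (γ : Y ⟶ X') [IsFinite γ] [IsSchemeTheoreticallyDominant γ]
      [IsIso (γ ∣_ U)], (H → Function.Injective γ ∧ HTop.ResidueFieldsIso γ) →
      (∑ s : S, (cokerLen (γ.app (W s)).hom).toNat ≤ N) → HasChain H γ from
    key _ γ hH le_rfl
  intro N
  induction N using Nat.strong_induction_on with
  | _ N ih =>
  intro Y γ _ _ _ hH hN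
  by_cases hsurj : ∀ s : S, Function.Surjective (γ.app (W s))
  · haveI : IsIso γ := by
      let T : Option S → X'.Opens := fun o => o.elim U W
      have hT : iSup T = ⊤ := by
        rw [eq_top_iff]
        intro y _
        rw [Opens.mem_iSup]
        by_cases hy : y ∈ U
        · exact ⟨none, hy⟩
        · exact ⟨some ⟨y, hy⟩, hsW ⟨y, hy⟩⟩
      refine (IsZariskiLocalAtTarget.iff_of_iSup_eq_top (P := MorphismProperty.isomorphisms Scheme.{u}) T hT).2
        fun o => ?_
      cases o with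
      | none => exact ‹IsIso (γ ∣_ U)›
      | some s =>
        haveI : IsAffine ↑(T (some s)) := hW s
        refine (HasAffineProperty.iff_of_isAffine (P := MorphismProperty.isomorphisms Scheme.{u})).2
          ⟨(hW s).preimage γ, ?_⟩
        change IsIso (γ ∣_ W s).appTop
        rw [morphismRestrict_appTop]
        have key : ∀ W₁, W₁ = W s → IsIso (γ.app W₁) := fun W₁ h => by
          subst h
          exact (ConcreteCategory.isIso_iff_bijective _).2 ⟨γ.app_injective _, hsurj s⟩
        haveI := key _ (W s).ι_image_top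
        infer_instance
    exact ⟨0, ComposableArrows.mk₀ Y, Iso.refl _, asIso γ, by
      change 𝟙 _ ≫ 𝟙 _ ≫ γ = γ
      rw [Category.id_comp, Category.id_comp], fun i => i.elim0⟩
  · push Not at hsurj
    obtain ⟨s, hs⟩ := hsurj
    obtain ⟨Y₁, a, γ₁, rfl, hfin, hdom, hiso, hsa, haway, hinj, hns, hstep⟩ :=
      exists_step γ U s.1 (hcl _ s.2) s.2 (hW s) (hWU s) hs
    haveI := hfin; haveI := hdom; haveI := hiso; haveI := hsa
    refine hasChain_cons ?_ a (hstep.mono hH)
    have hH₁ : H → Function.Injective γ₁ ∧ HTop.ResidueFieldsIso γ₁ := fun h => by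
      refine ⟨fun p q hpq => ?_, SN25.residueFieldsIso_of_comp_surjective a γ₁ (hH h).2⟩
      obtain ⟨y, rfl⟩ := a.surjective p
      obtain ⟨z, rfl⟩ := a.surjective q
      exact congrArg a ((hH h).1 hpq)
    have hcomp : ∀ t : S, ((a ≫ γ₁).app (W t)).hom = (a.app (γ₁ ⁻¹ᵁ W t)).hom.comp (γ₁.app (W t)).hom :=
      fun t => by rw [Scheme.Hom.comp_app]; rfl
    have hainj : ∀ t : S, Function.Injective (a.app (γ₁ ⁻¹ᵁ W t)) := fun t => by
      by_cases h : s.1 ∈ W t
      · obtain rfl : s = t := Subtype.ext (hWU t s.1 h s.2)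
        exact hinj
      · haveI := haway (W t) h
        exact (ConcreteCategory.bijective_of_isIso (a.app (γ₁ ⁻¹ᵁ W t))).1
    have hne : ∀ t : S, cokerLen ((a ≫ γ₁).app (W t)).hom ≠ ⊤ := fun t => by
      haveI : IsNoetherianRing Γ(X', W t) := IsLocallyNoetherian.component_noetherian ⟨W t, hW t⟩
      refine cokerLen_ne_top _ (IsFinite.finite_app (a ≫ γ₁) (W t) (hW t)) ?_
      letI := ((a ≫ γ₁).app (W t)).hom.toAlgebra
      haveI : Module.Finite Γ(X', W t) Γ(Y, (a ≫ γ₁) ⁻¹ᵁ W t) := IsFinite.finite_app (a ≫ γ₁) (W t) (hW t)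
      intro q hq hcq
      haveI := hq
      let q' : PrimeSpectrum Γ(X', W t) := ⟨q, hq⟩
      have hqW : (hW t).fromSpec q' ∈ W t := (hW t).range_fromSpec.le ⟨q', rfl⟩
      by_cases hqU : (hW t).fromSpec q' ∈ U
      · exfalso
        obtain ⟨f, hfU, hfq⟩ := (hW t).exists_basicOpen_le ⟨_, hqU⟩ hqW
        have hfq' : f ∉ q := by
          have : q' ∈ (hW t).fromSpec ⁻¹ᵁ X'.basicOpen f := hfq
          rwa [(hW t).fromSpec_preimage_basicOpen, PrimeSpectrum.mem_basicOpen] at this
        obtain ⟨_, ⟨n, rfl⟩, hc⟩ := SemiCond2.exists_mem_cond (Submonoid.powers f) fun b => by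
          obtain ⟨n, a', ha'⟩ := exists_pow_mem_range (a ≫ γ₁) (hW t) f hfU b
          exact ⟨f ^ n, ⟨n, rfl⟩, a', ha'⟩
        exact hfq' (hq.mem_of_pow_mem n (hcq hc))
      · have h1 : IsClosed ({q'} : Set (PrimeSpectrum Γ(X', W t))) := by
          have h2 : IsClosed ((hW t).fromSpec ⁻¹' {(hW t).fromSpec q'}) :=
            (hcl _ hqU).preimage (hW t).fromSpec.continuous
          rw [show ({q'} : Set (PrimeSpectrum Γ(X', W t))) = (hW t).fromSpec ⁻¹' {(hW t).fromSpec q'} from
            Set.ext fun z => ⟨fun h => (congrArg (hW t).fromSpec h :), fun h => (hW t).fromSpec.isOpenEmbedding.injective h⟩]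
          exact h2
        exact (PrimeSpectrum.isClosed_singleton_iff_isMaximal q').1 h1
    refine ih (∑ t : S, (cokerLen (γ₁.app (W t)).hom).toNat) (lt_of_lt_of_le ?_ hN) γ₁ hH₁ le_rfl
    refine Finset.sum_lt_sum (fun t _ => ?_) ⟨s, Finset.mem_univ _, ?_⟩
    · rw [hcomp t]
      exact ENat.toNat_le_toNat (cokerLen_le _ _ (hainj t)).1 (hcomp t ▸ hne t)
    · rw [hcomp s]
      have h1 := (cokerLen_le (γ₁.app (W s)).hom _ (hainj s)).2 hns (hcomp s ▸ hne s)
      obtain ⟨b', hb'⟩ := ENat.ne_top_iff_exists.1 (hcomp s ▸ hne s)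
      obtain ⟨a', ha'⟩ := ENat.ne_top_iff_exists.1 h1.ne_top
      rw [← hb', ← ha', ENat.toNat_coe, ENat.toNat_coe]
      rw [← hb', ← ha'] at h1
      exact_mod_cast h1

/-- A step in terms of the residue field of the image point. -/
theorem IsStep.exists_residueField {H : Prop} {P Q : Scheme.{u}} {a : P ⟶ Q} (h : IsStep H a) :
    ∃ (x : Q) (_ : IsClosed ({x} : Set Q)) (A : Type u) (_ : CommRing A) (_ : Algebra (Q.residueField x) A)
      (_ : IsSimpleOrder (Subalgebra (Q.residueField x) A)) (j : Spec (CommRingCat.of A) ⟶ P),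
      IsClosedImmersion j ∧
        IsPushout j (Spec.map (CommRingCat.ofHom (algebraMap (Q.residueField x) A))) a (Q.fromSpecResidueField x) ∧
        (H → Nonempty (A ≃ₐ[Q.residueField x] DualNumber (Q.residueField x))) := by
  obtain ⟨K, _, A, _, _, hs, j, b, hj, hb, hp, hH⟩ := h
  obtain ⟨⟨x, φ⟩, rfl⟩ := (Scheme.SpecToEquivOfField K Q).symm.surjective b
  change IsClosedImmersion (Spec.map φ ≫ Q.fromSpecResidueField x) at hb
  change IsPushout j _ a (Spec.map φ ≫ Q.fromSpecResidueField x) at hp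
  haveI : IsClosedImmersion (Spec.map φ ≫ Q.fromSpecResidueField x) := hb
  have hxcl : IsClosed ({x} : Set Q) := by
    have h1 := (Spec.map φ ≫ Q.fromSpecResidueField x).isClosedEmbedding.isClosed_range
    convert h1 using 1
    refine (Set.eq_singleton_iff_nonempty_unique_mem.2 ⟨Set.range_nonempty _, ?_⟩).symm
    rintro _ ⟨z, rfl⟩
    have : (Q.fromSpecResidueField x) (Spec.map φ z) ∈ Set.range (Q.fromSpecResidueField x) := ⟨_, rfl⟩
    rwa [Scheme.range_fromSpecResidueField] at this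
  haveI : IsClosedImmersion (Spec.map φ) := IsClosedImmersion.of_comp _ (Q.fromSpecResidueField x)
  have hbij : Function.Bijective φ := ⟨RingHom.injective φ.hom, fun k => by
    obtain ⟨r, hr⟩ := (Spec.map φ).app_surjective ⊤ (isAffineOpen_top _) ((Scheme.ΓSpecIso _).inv k)
    refine ⟨(Scheme.ΓSpecIso _).hom r, ?_⟩
    have := Scheme.ΓSpecIso_naturality φ
    rw [← CommRingCat.comp_apply, ← this, CommRingCat.comp_apply]
    change (Scheme.ΓSpecIso _).hom ((Spec.map φ).app ⊤ r) = k
    rw [hr, ← CommRingCat.comp_apply, Iso.inv_hom_id]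
    rfl⟩
  letI : Algebra (Q.residueField x) A := ((algebraMap K A).comp φ.hom).toAlgebra
  let φK : (Q.residueField x) ≃+* K := RingEquiv.ofBijective φ.hom hbij
  have hmem : ∀ (T : Subalgebra (Q.residueField x) A) (k : K), algebraMap K A k ∈ T := fun T k => by
    obtain ⟨c, rfl⟩ := hbij.2 k
    exact T.algebraMap_mem c
  have hs' : IsSimpleOrder (Subalgebra (Q.residueField x) A) := by
    let e : Subalgebra K A ≃o Subalgebra (Q.residueField x) A :=
      { toFun := fun T => { toSubsemiring := T.toSubsemiring, algebraMap_mem' := fun c => T.algebraMap_mem _ }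
        invFun := fun T => { toSubsemiring := T.toSubsemiring, algebraMap_mem' := hmem T }
        left_inv := fun T => SetLike.coe_injective rfl
        right_inv := fun T => SetLike.coe_injective rfl
        map_rel_iff' := Iff.rfl }
    exact e.symm.isSimpleOrder
  haveI : IsIso φ := (ConcreteCategory.isIso_iff_bijective φ).2 hbij
  refine ⟨x, hxcl, A, ‹_›, inferInstance, hs', j, hj,
    hp.of_iso (Iso.refl _) (Iso.refl _) (asIso (Spec.map φ)) (Iso.refl _) (by simp) ?_ (by simp) (by simp),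
    fun h' => ?_⟩
  · simp only [Iso.refl_hom, Category.id_comp, asIso_hom]
    rw [← Spec.map_comp]
    rfl
  · obtain ⟨ψ⟩ := hH h'
    let m : DualNumber K → DualNumber (Q.residueField x) :=
      fun d => TrivSqZeroExt.inl (φK.symm d.fst) + TrivSqZeroExt.inr (φK.symm d.snd)
    let μ : DualNumber K ≃+* DualNumber (Q.residueField x) :=
      { toFun := m
        invFun := fun d => TrivSqZeroExt.inl (φK d.fst) + TrivSqZeroExt.inr (φK d.snd)
        left_inv := fun d => TrivSqZeroExt.ext (by simp [m]) (by simp [m])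
        right_inv := fun d => TrivSqZeroExt.ext (by simp [m]) (by simp [m])
        map_mul' := fun d d' => TrivSqZeroExt.ext (by simp [m]) (by simp [m, mul_comm])
        map_add' := fun d d' => TrivSqZeroExt.ext (by simp [m]) (by simp [m]) }
    refine ⟨AlgEquiv.ofRingEquiv (f := ψ.toRingEquiv.trans μ) fun c => ?_⟩
    change μ (ψ (algebraMap K A (φ c))) = _
    rw [AlgEquiv.commutes]
    refine TrivSqZeroExt.ext ?_ ?_
    · simp [μ, m, TrivSqZeroExt.algebraMap_eq_inl, φK]
      exact (RingEquiv.ofBijective φ.hom hbij).symm_apply_apply c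
    · simp [μ, m, TrivSqZeroExt.algebraMap_eq_inl]

end GrothLib.PrimeAlg2
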