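import Groth.Agent.Lib.SN25.Ring
import Mathlib

/-!
# Local prime algebras with trivial residue extension are dual numbers
-/

set_option autoImplicit false
set_option linter.all false

universe u

namespace GrothLib.PrimeAlg2

theorem nonempty_dualNumber {K R : Type u} [Field K] [CommRing R] [Algebra K R] [IsNoetherianRing R]
    (hs : IsSimpleOrder (Subalgebra K R)) [Nontrivial R] [Subsingleton (PrimeSpectrum R)]
    (hres : UHTower.TrivRes (algebraMap K R)) : Nonempty (R ≃ₐ[K] DualNumber K) := by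
  classical
  obtain ⟨N, hN⟩ := Ideal.exists_maximal R
  have huniq : ∀ Q : Ideal R, Q.IsPrime → Q = N := fun Q hQ =>
    congrArg PrimeSpectrum.asIdeal (Subsingleton.elim (⟨Q, hQ⟩ : PrimeSpectrum R) ⟨N, hN.isPrime⟩)
  have hk : ∀ r : R, ∃ k : K, r - algebraMap K R k ∈ N := by
    intro r
    obtain ⟨s, a, hs', ha⟩ := hres N r
    have hs0 : s ≠ 0 := by rintro rfl; exact hs' (by rw [map_zero]; exact zero_mem _)
    refine ⟨s⁻¹ * a, ?_⟩
    have : r - algebraMap K R (s⁻¹ * a) = algebraMap K R s⁻¹ * (algebraMap K R s * r - algebraMap K R a) := by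
      rw [mul_sub, ← mul_assoc, ← map_mul, ← map_mul, inv_mul_cancel₀ hs0, map_one, one_mul]
    rw [this]
    exact Ideal.mul_mem_left _ _ ha
  have hnil : ∀ r ∈ N, IsNilpotent r := fun r hr => by
    rw [← mem_nilradical, nilradical, Ideal.radical_eq_sInf, Submodule.mem_sInf]
    rintro Q ⟨-, hQ⟩
    rw [huniq Q hQ]; exact hr
  -- the last nonzero power of the maximal ideal
  obtain ⟨m, hm⟩ : ∃ m, N ^ m = ⊥ := by
    obtain ⟨n, hn⟩ := IsNoetherianRing.isNilpotent_nilradical R
    exact ⟨n, le_bot_iff.1 (le_trans (Ideal.pow_right_mono (fun r hr => mem_nilradical.2 (hnil r hr)) n)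
      (le_of_eq hn))⟩
  have hex : ∃ m, N ^ m = ⊥ := ⟨m, hm⟩
  let d := Nat.find hex
  have hd : N ^ d = ⊥ := Nat.find_spec hex
  have hd2 : 2 ≤ d := by
    by_contra hc
    have hN1 : N = ⊥ := by
      rcases Nat.lt_succ_iff.1 (Nat.not_le.1 hc) |>.eq_or_lt with h | h
      · rwa [h, pow_one] at hd
      · rw [Nat.lt_one_iff.1 h, pow_zero, Ideal.one_eq_top] at hd
        exact absurd hd top_ne_bot
    refine (bot_ne_top : (⊥ : Subalgebra K R) ≠ ⊤) (eq_top_iff.2 fun r _ => ?_)
    obtain ⟨k, hk⟩ := hk r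
    rw [hN1, Ideal.mem_bot, sub_eq_zero] at hk
    exact Algebra.mem_bot.2 ⟨k, hk.symm⟩
  obtain ⟨e, he, he0⟩ : ∃ e ∈ N ^ (d - 1), e ≠ (0 : R) := by
    by_contra hc
    push Not at hc
    exact Nat.find_min hex (show d - 1 < d by omega) (eq_bot_iff.2 fun r hr => hc r hr)
  have heN : e ∈ N := Ideal.pow_le_self (by omega) he
  have hee : e * e = 0 := by
    have h1 : e * e ∈ N ^ (d - 1) * N := Ideal.mul_mem_mul he heN
    rw [← pow_succ, Nat.sub_add_cancel (show 1 ≤ d by omega), hd] at h1
    exact h1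
  let f : DualNumber K →ₐ[K] R :=
    DualNumber.lift ⟨(Algebra.ofId K R, e), hee, fun a => mul_comm _ _⟩
  have hf : ∀ k l : K, f (TrivSqZeroExt.inl k + TrivSqZeroExt.inr l) =
      algebraMap K R k + algebraMap K R l * e := fun k l => by
    have h1 : TrivSqZeroExt.inl k + TrivSqZeroExt.inr l = algebraMap K (DualNumber K) k + l • DualNumber.eps := by
      ext <;> simp [TrivSqZeroExt.algebraMap_eq_inl]
    rw [h1, map_add, AlgHom.commutes, map_smul, DualNumber.lift_apply_eps, Algebra.smul_def]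
  have hinj : Function.Injective f := by
    rw [injective_iff_map_eq_zero]
    intro x hx
    rw [← TrivSqZeroExt.inl_fst_add_inr_snd_eq x, hf] at hx
    have hk0 : x.fst = 0 := by
      by_contra hne
      have h1 : algebraMap K R x.fst ∈ N := by
        rw [eq_neg_of_add_eq_zero_left hx]
        exact neg_mem (Ideal.mul_mem_left _ _ heN)
      exact hN.ne_top (Ideal.eq_top_of_isUnit_mem _ h1 ((isUnit_iff_ne_zero.2 hne).map _))
    rw [hk0, map_zero, zero_add] at hx
    have hl : x.snd = 0 := by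
      by_contra hne
      exact he0 (((isUnit_iff_ne_zero.2 hne).map (algebraMap K R)).mul_right_eq_zero.1 hx)
    exact TrivSqZeroExt.ext hk0 hl
  have hsurj : Function.Surjective f := by
    rcases hs.eq_bot_or_eq_top f.range with h | h
    · exfalso
      have hmem : e ∈ f.range := ⟨DualNumber.eps, DualNumber.lift_apply_eps _⟩
      rw [h] at hmem
      obtain ⟨k, hk⟩ := Algebra.mem_bot.1 hmem
      rcases eq_or_ne k 0 with h0 | h0
      · exact he0 (by rw [← hk, h0, map_zero])
      · have h1 : IsUnit e := hk ▸ (isUnit_iff_ne_zero.2 h0).map (algebraMap K R)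
        exact hN.ne_top (Ideal.eq_top_of_isUnit_mem _ heN h1)
    · exact fun r => (h ▸ Algebra.mem_top : r ∈ f.range)
  exact ⟨(AlgEquiv.ofBijective f ⟨hinj, hsurj⟩).symm⟩

end GrothLib.PrimeAlg2
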