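import Mathlib

/-!
# A maximal intermediate subalgebra of a finite extension
-/

set_option autoImplicit false
set_option linter.all false

universe u

namespace GrothLib.PrimeAlg2

/-- The data of a maximal subalgebra with its prime algebra quotient. -/
structure MaxSub (A B : Type u) [CommRing A] [CommRing B] [Algebra A B] where
  A' : Subalgebra A B
  M : Ideal A'
  isMax : M.IsMaximal
  J : Ideal B
  ne_top : A' ≠ ⊤
  le : ∀ y ∈ J, y ∈ A'
  comap : J.comap A'.val.toRingHom = M
  simple : ∀ T : Subalgebra A B, A' ≤ T → T = A' ∨ T = ⊤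

variable {A B : Type u} [CommRing A] [CommRing B] [Algebra A B]

theorem exists_maxSub [IsNoetherianRing A] [Module.Finite A B]
    (h : ¬ Function.Surjective (algebraMap A B)) : Nonempty (MaxSub A B) := by
  have hne : (⊥ : Subalgebra A B) ≠ ⊤ := fun e => h fun b => by
    have : b ∈ (⊥ : Subalgebra A B) := e ▸ Algebra.mem_top
    exact Algebra.mem_bot.1 this
  obtain ⟨_, ⟨A', hA', rfl⟩, hmax⟩ := WellFounded.has_min
    (wellFounded_gt (α := Submodule A B))
    (Subalgebra.toSubmodule '' {T : Subalgebra A B | T ≠ ⊤}) ⟨_, ⊥, hne, rfl⟩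
  have hsimple : ∀ T : Subalgebra A B, A' ≤ T → T = A' ∨ T = ⊤ := fun T hT => by
    by_contra hc
    push Not at hc
    exact hmax _ ⟨T, hc.2, rfl⟩ (lt_of_le_of_ne hT fun e => hc.1 (Subalgebra.toSubmodule.injective e).symm)
  haveI : Module.Finite A' B := Module.Finite.of_restrictScalars_finite A A' B
  let R : Submodule A' B := LinearMap.range (Algebra.linearMap A' B)
  let c : Ideal A' := (⊤ : Submodule A' (B ⧸ R)).annihilator
  have hc : c ≠ ⊤ := fun e => hA' (eq_top_iff.2 fun b _ => by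
    have h1 : (1 : A') ∈ c := e ▸ trivial
    have h2 := Submodule.mem_annihilator.1 h1 (R.mkQ b) trivial
    rw [one_smul, Submodule.mkQ_apply, Submodule.Quotient.mk_eq_zero] at h2
    obtain ⟨a, rfl⟩ := h2
    exact a.2)
  obtain ⟨M, hM, hcM⟩ := Ideal.exists_le_maximal c hc
  let J : Ideal B := M.map A'.val.toRingHom
  have hMsmul : ∀ y ∈ J, R.mkQ y ∈ M • (⊤ : Submodule A' (B ⧸ R)) := by
    intro y hy
    suffices ∀ b : B, R.mkQ (b * y) ∈ M • (⊤ : Submodule A' (B ⧸ R)) by
      simpa using this 1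
    induction hy using Submodule.span_induction with
    | mem x hx =>
      obtain ⟨m, hm, rfl⟩ := hx
      intro b
      have : b * A'.val.toRingHom m = m • b := by rw [Algebra.smul_def, mul_comm]; rfl
      rw [this, map_smul]
      exact Submodule.smul_mem_smul hm trivial
    | zero => intro b; rw [mul_zero, map_zero]; exact zero_mem _
    | add x z _ _ h h' => intro b; rw [mul_add, map_add]; exact add_mem (h b) (h' b)
    | smul a x _ h => intro b; rw [smul_eq_mul, ← mul_assoc]; exact h _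
  let S : Subalgebra A B := (A'.map (Ideal.Quotient.mkₐ A J)).comap (Ideal.Quotient.mkₐ A J)
  have hAS : A' ≤ S := fun a ha => ⟨a, ha, rfl⟩
  rcases hsimple S hAS with hS | hS
  · have hle : ∀ y ∈ J, y ∈ A' := fun y hy => by
      rw [← hS]
      exact ⟨0, zero_mem _, by rw [map_zero]; exact (Ideal.Quotient.eq_zero_iff_mem.2 hy).symm⟩
    refine ⟨⟨A', M, hM, J, hA', hle, ?_, hsimple⟩⟩
    refine (hM.eq_of_le ?_ (Ideal.map_le_iff_le_comap.1 le_rfl)).symm
    refine Ideal.comap_ne_top _ fun e => hA' (eq_top_iff.2 fun b _ => hle b (by rw [show J = ⊤ from e]; trivial))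
  · exfalso
    have htop : (⊤ : Submodule A' (B ⧸ R)) ≤ M • ⊤ := by
      rintro q -
      obtain ⟨b, rfl⟩ := R.mkQ_surjective q
      obtain ⟨a, ha, hab⟩ := (hS ▸ Algebra.mem_top : b ∈ S)
      have hy : b - a ∈ J := Ideal.Quotient.eq.1 hab.symm
      have ha0 : R.mkQ a = 0 := (Submodule.Quotient.mk_eq_zero _).2 ⟨⟨a, ha⟩, rfl⟩
      have e : R.mkQ b = R.mkQ (b - a) := by rw [map_sub, ha0, sub_zero]
      rw [e]
      exact hMsmul _ hy
    obtain ⟨r, hr, hr0⟩ := Submodule.exists_sub_one_mem_and_smul_eq_zero_of_fg_of_le_smul M ⊤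
      Module.Finite.fg_top htop
    have hrc : r ∈ M := hcM (Submodule.mem_annihilator.2 fun q _ => hr0 q trivial)
    exact hM.ne_top ((Ideal.eq_top_iff_one _).2 (by simpa using sub_mem hrc hr))

namespace MaxSub

variable (D : MaxSub A B)

/-- The residue field of the maximal subalgebra. -/
abbrev K : Type u := D.A' ⧸ D.M

/-- The map to the prime algebra. -/
noncomputable def toQ : D.K →+* B ⧸ D.J :=
  Ideal.Quotient.lift D.M ((Ideal.Quotient.mk D.J).comp D.A'.val.toRingHom) fun a ha =>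
    Ideal.Quotient.eq_zero_iff_mem.2 (show a ∈ D.J.comap D.A'.val.toRingHom from D.comap.symm ▸ ha)

theorem toQ_mk (a : D.A') : D.toQ (Ideal.Quotient.mk D.M a) = Ideal.Quotient.mk D.J (a : B) := rfl

theorem mem_of_toQ (b : B) (k : D.K) (h : D.toQ k = Ideal.Quotient.mk D.J b) : b ∈ D.A' := by
  obtain ⟨a, rfl⟩ := Ideal.Quotient.mk_surjective k
  rw [toQ_mk, Ideal.Quotient.eq] at h
  have := sub_mem a.2 (D.le _ h)
  rwa [sub_sub_cancel] at this

theorem eq_bot_or_top [Algebra D.K (B ⧸ D.J)] (h : algebraMap D.K (B ⧸ D.J) = D.toQ)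
    (T : Subalgebra D.K (B ⧸ D.J)) : T = ⊥ ∨ T = ⊤ := by
  have hA : ∀ a : D.A', Ideal.Quotient.mk D.J (a : B) ∈ T := fun a => by
    rw [← toQ_mk, ← h]; exact T.algebraMap_mem _
  let S : Subalgebra A B :=
    { toSubsemiring := T.toSubsemiring.comap (Ideal.Quotient.mk D.J)
      algebraMap_mem' := fun a => hA ⟨_, D.A'.algebraMap_mem a⟩ }
  rcases D.simple S (fun a ha => hA ⟨a, ha⟩) with hS | hS
  · left
    refine eq_bot_iff.2 fun y hy => ?_
    obtain ⟨b, rfl⟩ := Ideal.Quotient.mk_surjective y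
    have hb : b ∈ D.A' := hS ▸ (hy : b ∈ S)
    exact Algebra.mem_bot.2 ⟨Ideal.Quotient.mk D.M ⟨b, hb⟩, by rw [h]; rfl⟩
  · right
    refine eq_top_iff.2 fun y _ => ?_
    obtain ⟨b, rfl⟩ := Ideal.Quotient.mk_surjective y
    exact (hS ▸ Algebra.mem_top : b ∈ S)

theorem bot_ne_top [Algebra D.K (B ⧸ D.J)] (h : algebraMap D.K (B ⧸ D.J) = D.toQ) :
    (⊥ : Subalgebra D.K (B ⧸ D.J)) ≠ ⊤ := fun e => D.ne_top (eq_top_iff.2 fun b _ => by
  obtain ⟨k, hk⟩ := Algebra.mem_bot.1 (e ▸ Algebra.mem_top : Ideal.Quotient.mk D.J b ∈ (⊥ : Subalgebra D.K (B ⧸ D.J)))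
  exact D.mem_of_toQ b k (h ▸ hk))

theorem isSimpleOrder [Algebra D.K (B ⧸ D.J)] (h : algebraMap D.K (B ⧸ D.J) = D.toQ) :
    IsSimpleOrder (Subalgebra D.K (B ⧸ D.J)) :=
  { exists_pair_ne := ⟨⊥, ⊤, D.bot_ne_top h⟩
    eq_bot_or_eq_top := D.eq_bot_or_top h }

theorem toQ_finite [Module.Finite A B] : D.toQ.Finite := by
  have h1 : ((Ideal.Quotient.mk D.J).comp (algebraMap A B)).Finite :=
    (RingHom.Finite.of_surjective _ Ideal.Quotient.mk_surjective).comp
      (show (algebraMap A B).Finite from RingHom.finite_algebraMap.2 inferInstance)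
  exact RingHom.Finite.of_comp_finite (f := (Ideal.Quotient.mk D.M).comp (algebraMap A D.A')) (g := D.toQ) h1

theorem residue_finite [IsNoetherianRing A] [Module.Finite A B] :
    ((Ideal.Quotient.mk D.M).comp (algebraMap A D.A')).Finite := by
  haveI : Module.Finite A D.A' :=
    Module.Finite.of_injective D.A'.val.toLinearMap Subtype.val_injective
  exact (RingHom.Finite.of_surjective _ Ideal.Quotient.mk_surjective).comp
    (RingHom.finite_algebraMap.2 inferInstance)

end MaxSub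

end GrothLib.PrimeAlg2
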