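import Groth.Agent.Lib.PrimeAlg2.Ring
import Groth.Agent.Lib.PrimeAlg2.Dual
import Groth.Agent.Lib.Pushout6.Exists
import Groth.Agent.Lib.Pushout6.Transfer
import Groth.Agent.Lib.SemiCond2.Ring
import Groth.Agent.Lib.SN25.Scheme
import Groth.Agent.Lib.SN25.Factor

/-!
# One step of a chain of pushouts along prime algebras
-/

set_option autoImplicit false
set_option linter.all false
set_option backward.isDefEq.respectTransparency false
set_option maxHeartbeats 800000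

universe u

open CategoryTheory Limits AlgebraicGeometry TopologicalSpace Opposite

namespace GrothLib.PrimeAlg2

/-- A pushout along a prime algebra, with dual numbers under the side condition `H`. -/
def IsStep (H : Prop) {P Q : Scheme.{u}} (a : P ⟶ Q) : Prop :=
  ∃ (K : Type u) (_ : Field K) (A : Type u) (_ : CommRing A) (_ : Algebra K A)
    (_ : IsSimpleOrder (Subalgebra K A)) (j : Spec (CommRingCat.of A) ⟶ P) (b : Spec (CommRingCat.of K) ⟶ Q),
    IsClosedImmersion j ∧ IsClosedImmersion b ∧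
      IsPushout j (Spec.map (CommRingCat.ofHom (algebraMap K A))) a b ∧
      (H → Nonempty (A ≃ₐ[K] DualNumber K))

theorem IsStep.comp_iso {H : Prop} {P Q Q' : Scheme.{u}} {a : P ⟶ Q} (h : IsStep H a) (e : Q ≅ Q') :
    IsStep H (a ≫ e.hom) := by
  obtain ⟨K, _, A, _, _, hs, j, b, hj, hb, hp, hH⟩ := h
  exact ⟨K, ‹_›, A, ‹_›, ‹_›, hs, j, b ≫ e.hom, hj, inferInstance,
    hp.of_iso (Iso.refl _) (Iso.refl _) (Iso.refl _) e (by simp) (by simp) (by simp) (by simp), hH⟩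

variable {X' Y : Scheme.{u}}

/-- An affine open around the only point outside `U` where the map is not an isomorphism. -/
theorem exists_pow_mem_range (γ : Y ⟶ X') [IsAffineHom γ] {U : X'.Opens} [IsIso (γ ∣_ U)] {W : X'.Opens}
    (hW : IsAffineOpen W) (f : Γ(X', W)) (hf : X'.basicOpen f ≤ U) (b : Γ(Y, γ ⁻¹ᵁ W)) :
    ∃ n : ℕ, ∃ a, γ.app W a = γ.app W (f ^ n) * b := by
  let O := X'.basicOpen f
  haveI : IsIso (γ.app O) := by
    obtain ⟨V, hV⟩ : ∃ V, U.ι ''ᵁ V = O := ⟨U.ι ⁻¹ᵁ O, by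
      rw [Scheme.Hom.image_preimage_eq_opensRange_inf, Scheme.Opens.opensRange_ι, inf_eq_right.2 hf]⟩
    rw [← hV]
    have h' : IsIso ((γ ∣_ U).app V) := inferInstance
    rw [morphismRestrict_app] at h'
    refine @IsIso.of_isIso_comp_right _ _ _ _ _ _ _ ?_ h'
    infer_instance
  have hbij : Function.Bijective (γ.app O) := ConcreteCategory.bijective_of_isIso (γ.app O)
  haveI := hW.isLocalization_basicOpen f
  let e := Scheme.preimage_basicOpen γ f
  let r : Γ(Y, γ ⁻¹ᵁ W) ⟶ Γ(Y, γ ⁻¹ᵁ O) := Y.presheaf.map (homOfLE (e.le.trans (Y.basicOpen_le _))).op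
  have hnat : ∀ a : Γ(X', W), γ.app O (algebraMap Γ(X', W) Γ(X', O) a) = r (γ.app W a) := fun a => by
    change (X'.presheaf.map _ ≫ γ.app O) a = (γ.app W ≫ Y.presheaf.map _) a
    rw [Scheme.Hom.naturality]
    rfl
  obtain ⟨z, hz⟩ := hbij.2 (r b)
  obtain ⟨a, ⟨_, n, rfl⟩, rfl⟩ := IsLocalization.exists_mk'_eq (Submonoid.powers f) z
  have h1 : r (γ.app W a) = r (γ.app W (f ^ n) * b) := by
    rw [map_mul, ← hnat, ← hnat, ← IsLocalization.mk'_spec (Γ(X', O)) a (⟨f ^ n, n, rfl⟩ : Submonoid.powers f),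
      map_mul, hz, mul_comm]
  haveI := (hW.preimage γ).isLocalization_basicOpen (γ.app W f)
  have hle : Y.basicOpen (γ.app W f) ≤ γ ⁻¹ᵁ O := e.ge
  have h2 : algebraMap Γ(Y, γ ⁻¹ᵁ W) Γ(Y, Y.basicOpen (γ.app W f)) (γ.app W a) =
      algebraMap Γ(Y, γ ⁻¹ᵁ W) Γ(Y, Y.basicOpen (γ.app W f)) (γ.app W (f ^ n) * b) := by
    have key : ∀ y, algebraMap Γ(Y, γ ⁻¹ᵁ W) Γ(Y, Y.basicOpen (γ.app W f)) y =
        Y.presheaf.map (homOfLE hle).op (r y) := fun y => by
      change _ = (r ≫ Y.presheaf.map _) y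
      rw [← Functor.map_comp]
      rfl
    rw [key, key, h1]
  obtain ⟨⟨_, m, rfl⟩, hm⟩ := (IsLocalization.eq_iff_exists (Submonoid.powers (γ.app W f)) _).1 h2
  refine ⟨m + n, f ^ m * a, ?_⟩
  simp only [map_mul, map_pow, pow_add] at hm ⊢
  rw [hm]
  ring

theorem exists_step [IsLocallyNoetherian X'] (γ : Y ⟶ X') [IsFinite γ] [IsSchemeTheoreticallyDominant γ]
    (U : X'.Opens) [IsIso (γ ∣_ U)] (x : X') (hxcl : IsClosed ({x} : Set X')) (hxU : x ∉ U)
    {W : X'.Opens} (hW : IsAffineOpen W) (hWU : ∀ y ∈ W, y ∉ U → y = x)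
    (hne : ¬ Function.Surjective (γ.app W)) :
    ∃ (Y₁ : Scheme.{u}) (a : Y ⟶ Y₁) (γ₁ : Y₁ ⟶ X'), a ≫ γ₁ = γ ∧ IsFinite γ₁ ∧
      IsSchemeTheoreticallyDominant γ₁ ∧ IsIso (γ₁ ∣_ U) ∧ Surjective a ∧
      (∀ V : X'.Opens, x ∉ V → IsIso (a.app (γ₁ ⁻¹ᵁ V))) ∧
      Function.Injective (a.app (γ₁ ⁻¹ᵁ W)) ∧ ¬ Function.Surjective (a.app (γ₁ ⁻¹ᵁ W)) ∧
      IsStep (Function.Injective γ ∧ HTop.ResidueFieldsIso γ) a := by
  classical
  haveI : IsNoetherianRing Γ(X', W) := IsLocallyNoetherian.component_noetherian ⟨W, hW⟩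
  letI : Algebra Γ(X', W) Γ(Y, γ ⁻¹ᵁ W) := (γ.app W).hom.toAlgebra
  haveI : Module.Finite Γ(X', W) Γ(Y, γ ⁻¹ᵁ W) := IsFinite.finite_app γ W hW
  obtain ⟨D⟩ := exists_maxSub (A := Γ(X', W)) (B := Γ(Y, γ ⁻¹ᵁ W)) hne
  haveI := D.isMax
  letI : Field D.K := Ideal.Quotient.field D.M
  haveI : Module.Finite Γ(X', W) D.A' := Module.Finite.of_injective D.A'.val.toLinearMap Subtype.val_injective
  let P : Ideal Γ(X', W) := D.M.comap (algebraMap Γ(X', W) D.A')
  haveI hPmax : P.IsMaximal := Ideal.isMaximal_comap_of_isIntegral_of_isMaximal D.M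
  let p : PrimeSpectrum Γ(X', W) := ⟨P, hPmax.isPrime⟩
  have hpx : hW.fromSpec p = x := by
    refine hWU _ (hW.range_fromSpec.le ⟨p, rfl⟩) fun hpU => ?_
    obtain ⟨f, hfU, hfp⟩ := (hW.exists_basicOpen_le ⟨hW.fromSpec p, hpU⟩ (hW.range_fromSpec.le ⟨p, rfl⟩))
    have hfp' : f ∉ P := by
      have : p ∈ hW.fromSpec ⁻¹ᵁ X'.basicOpen f := hfp
      rwa [hW.fromSpec_preimage_basicOpen, PrimeSpectrum.mem_basicOpen] at this
    obtain ⟨s, ⟨n, rfl⟩, hs⟩ := SemiCond2.exists_mem_cond (Submonoid.powers f) fun b => by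
      obtain ⟨n, a, ha⟩ := exists_pow_mem_range γ hW f hfU b
      exact ⟨f ^ n, ⟨n, rfl⟩, a, ha⟩
    refine hfp' (hPmax.isPrime.mem_of_pow_mem n ?_)
    change algebraMap Γ(X', W) D.A' (f ^ n) ∈ D.M
    by_contra hM
    obtain ⟨u, w, hw, huw⟩ := D.isMax.exists_inv hM
    refine D.ne_top (eq_top_iff.2 fun b _ => ?_)
    have hwJ : (w : Γ(Y, γ ⁻¹ᵁ W)) ∈ D.J := by
      have : w ∈ D.J.comap D.A'.val.toRingHom := D.comap.symm ▸ hw
      exact this
    have hone : (u : Γ(Y, γ ⁻¹ᵁ W)) * algebraMap Γ(X', W) Γ(Y, γ ⁻¹ᵁ W) (f ^ n) + w = 1 :=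
      congrArg (fun z : D.A' => (z : Γ(Y, γ ⁻¹ᵁ W))) huw
    rw [← one_mul b, ← hone, add_mul, mul_assoc]
    obtain ⟨a, ha⟩ := hs b
    refine add_mem (mul_mem u.2 ?_) (D.le _ (Ideal.mul_mem_right _ _ hwJ))
    rw [← ha]
    exact D.A'.algebraMap_mem a
  -- the point
  let res : Γ(X', W) →+* D.K := (Ideal.Quotient.mk D.M).comp (algebraMap Γ(X', W) D.A')
  let kx : Spec (CommRingCat.of D.K) ⟶ X' := Spec.map (CommRingCat.ofHom res) ≫ hW.fromSpec
  let resq : Γ(X', W) ⧸ P →+* D.K := Ideal.Quotient.lift P res fun a ha => Ideal.Quotient.eq_zero_iff_mem.2 ha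
  let c₁ : Spec (CommRingCat.of (Γ(X', W) ⧸ P)) ⟶ X' :=
    Spec.map (CommRingCat.ofHom (Ideal.Quotient.mk P)) ≫ hW.fromSpec
  have hc₁pt : ∀ z, c₁ z = x := fun z => by
    rw [← hpx]
    change hW.fromSpec (PrimeSpectrum.comap (Ideal.Quotient.mk P) z) = _
    congr 1
    refine PrimeSpectrum.ext (hPmax.eq_of_le (z.asIdeal.comap (Ideal.Quotient.mk P) |> fun I =>
      (inferInstance : (z.asIdeal.comap (Ideal.Quotient.mk P)).IsPrime).ne_top) ?_).symm
    intro a ha
    change Ideal.Quotient.mk P a ∈ z.asIdeal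
    rw [Ideal.Quotient.eq_zero_iff_mem.2 ha]
    exact zero_mem _
  haveI : IsClosedImmersion (Spec.map (CommRingCat.ofHom (Ideal.Quotient.mk P))) :=
    IsClosedImmersion.spec_of_surjective _ Ideal.Quotient.mk_surjective
  haveI : IsClosedImmersion c₁ := by
    refine IsClosedImmersion.of_isPreimmersion c₁ ?_
    haveI : Nontrivial (Γ(X', W) ⧸ P) := Ideal.Quotient.nontrivial_iff.2 hPmax.ne_top
    rw [show Set.range c₁ = {x} from Set.ext fun y => ⟨fun ⟨z, hz⟩ => hz ▸ hc₁pt z,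
      fun hy => ⟨(Classical.arbitrary (PrimeSpectrum (Γ(X', W) ⧸ P)) :), (hc₁pt _).trans hy.symm⟩⟩]
    exact hxcl
  have hkx : kx = Spec.map (CommRingCat.ofHom resq) ≫ c₁ := by
    change _ = Spec.map _ ≫ Spec.map _ ≫ _
    rw [← Spec.map_comp_assoc]
    rfl
  haveI : IsFinite (Spec.map (CommRingCat.ofHom resq)) := by
    rw [IsFinite.SpecMap_iff]
    exact RingHom.Finite.of_comp_finite (f := Ideal.Quotient.mk P) D.residue_finite
  haveI : IsFinite kx := by rw [hkx]; infer_instance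
  have hkxpt : ∀ z, kx z = x := fun z => by rw [hkx]; exact hc₁pt _
  -- the closed subscheme
  let Q := Γ(Y, γ ⁻¹ᵁ W) ⧸ D.J
  let jS : Spec (CommRingCat.of Q) ⟶ Spec (CommRingCat.of D.K) := Spec.map (CommRingCat.ofHom D.toQ)
  let mkJ : Γ(Y, γ ⁻¹ᵁ W) ⟶ CommRingCat.of Q := CommRingCat.ofHom (Ideal.Quotient.mk D.J)
  let i : Spec (CommRingCat.of Q) ⟶ Y := Spec.map mkJ ≫ (hW.preimage γ).fromSpec
  have hiγ : i ≫ γ = jS ≫ kx := by
    change (Spec.map mkJ ≫ _) ≫ γ = Spec.map _ ≫ Spec.map _ ≫ _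
    rw [Category.assoc, ← hW.SpecMap_appLE_fromSpec γ (hW.preimage γ) le_rfl, ← Spec.map_comp_assoc,
      ← Spec.map_comp_assoc, ← Scheme.Hom.app_eq_appLE]
    rfl
  haveI : IsFinite jS := by rw [IsFinite.SpecMap_iff]; exact D.toQ_finite
  haveI : IsClosedImmersion (Spec.map mkJ) := IsClosedImmersion.spec_of_surjective _ Ideal.Quotient.mk_surjective
  haveI : IsFinite i := by
    haveI : IsFinite (i ≫ γ) := by rw [hiγ]; infer_instance
    exact IsFinite.of_comp i γ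
  haveI : IsClosedImmersion i := (IsClosedImmersion.iff_isFinite_and_mono i).2 ⟨inferInstance, inferInstance⟩
  haveI hQnt : Nontrivial Q := Ideal.Quotient.nontrivial_iff.2 fun e =>
    D.ne_top (eq_top_iff.2 fun b _ => D.le b (by rw [e]; trivial))
  have htoQ : Function.Injective D.toQ := RingHom.injective _
  haveI hjsurj : Surjective jS := ⟨fun k => ⟨Classical.arbitrary (PrimeSpectrum Q), Subsingleton.elim (α := PrimeSpectrum D.K) _ _⟩⟩
  -- the pushout
  let c₀ : Pushout6.Chart i jS :=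
    { U := γ ⁻¹ᵁ W, V := ⊤, hU := hW.preimage γ, hV := isAffineOpen_top _
      trace := by
        rw [Scheme.Hom.preimage_top, eq_top_iff]
        intro z _
        exact (hW.preimage γ).range_fromSpec.le ⟨_, rfl⟩ }
  have hC : Pushout6.Covered i jS := fun y => ⟨c₀, trivial⟩
  let Y₁ := Pushout6.obj i jS
  let a : Y ⟶ Y₁ := Pushout6.inl hC
  let b : Spec (CommRingCat.of D.K) ⟶ Y₁ := Pushout6.inr hC
  have hpush : IsPushout i jS a b := Pushout6.isPushout hC
  let γ₁ : Y₁ ⟶ X' := hpush.desc γ kx hiγ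
  have ha : a ≫ γ₁ = γ := hpush.inl_desc _ _ _
  have hb : b ≫ γ₁ = kx := hpush.inr_desc _ _ _
  haveI : IsClosedImmersion b := Pushout6.isClosedImmersion_inr hC
  haveI : IsIntegralHom a := Pushout6.isIntegralHom_inl hC
  have haγ : ∀ y, γ₁ (a y) = γ y := fun y => congr($ha y)
  have hbγ : ∀ v, γ₁ (b v) = x := fun v => (congr($hb v)).trans (hkxpt v)
  have hxW : x ∈ W := hpx ▸ hW.range_fromSpec.le ⟨p, rfl⟩
  have hO₀ : γ₁ ⁻¹ᵁ W = (Pushout6.chartι c₀).opensRange := by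
    ext q
    rcases Pushout6.exists_inl_or_inr hC q with ⟨y, rfl⟩ | ⟨v, rfl⟩
    · have h1 : a y ∈ (Pushout6.chartι c₀).opensRange ↔ y ∈ c₀.U := by
        rw [← Pushout6.preimage_inl hC c₀]; rfl
      exact Iff.trans (by change γ₁ (a y) ∈ W ↔ y ∈ c₀.U; rw [haγ]; rfl) h1.symm
    · have h1 : b v ∈ (Pushout6.chartι c₀).opensRange := by
        have : v ∈ c₀.V := trivial
        rwa [← Pushout6.preimage_inr hC c₀] at this
      exact iff_of_true (show γ₁ (b v) ∈ W from (hbγ v).symm ▸ hxW) h1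
  have hO₀aff : IsAffineOpen (γ₁ ⁻¹ᵁ W) := hO₀ ▸ isAffineOpen_opensRange _
  have hpre : γ ⁻¹ᵁ W = a ⁻¹ᵁ γ₁ ⁻¹ᵁ W := by rw [← Scheme.Hom.comp_preimage, ha]
  -- injectivity on the chart
  have hαd : Function.Injective c₀.g := by
    intro s t hst
    refine c₀.ext ?_ hst
    have h1 : c₀.q (c₀.f s) = c₀.q (c₀.f t) := by rw [c₀.w, c₀.w, hst]
    haveI : IsSchemeTheoreticallyDominant jS := by
      rw [isSchemeTheoreticallyDominant_iff]
      refine Scheme.IdealSheafData.ext_of_isAffine ?_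
      rw [Scheme.Hom.ker_apply _ ⟨⊤, isAffineOpen_top _⟩, Scheme.IdealSheafData.ideal_bot, Pi.bot_apply,
        ← RingHom.injective_iff_ker_eq_bot]
      have := Scheme.ΓSpecIso_naturality (CommRingCat.ofHom D.toQ)
      rw [← Iso.eq_comp_inv] at this
      change Function.Injective (Spec.map (CommRingCat.ofHom D.toQ)).appTop.hom
      rw [this]
      exact ((ConcreteCategory.bijective_of_isIso (Scheme.ΓSpecIso (CommRingCat.of Q)).inv).1.comp htoQ).comp
        (ConcreteCategory.bijective_of_isIso (Scheme.ΓSpecIso (CommRingCat.of D.K)).hom).1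
    have e : c₀.q = jS.app c₀.V ≫ (Spec (CommRingCat.of Q)).presheaf.map (eqToHom c₀.trace).op := by
      rw [Pushout6.Chart.q, Scheme.Hom.app_eq_appLE, Scheme.Hom.appLE_map]
    rw [e] at h1
    exact jS.app_injective c₀.V
      ((ConcreteCategory.bijective_of_isIso ((Spec (CommRingCat.of Q)).presheaf.map (eqToHom c₀.trace).op)).1 h1)
  have hainj : Function.Injective (a.app (γ₁ ⁻¹ᵁ W)) := by
    haveI : IsSchemeTheoreticallyDominant (Spec.map c₀.g) := by
      rw [isSchemeTheoreticallyDominant_iff]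
      refine Scheme.IdealSheafData.ext_of_isAffine ?_
      rw [Scheme.Hom.ker_apply _ ⟨⊤, isAffineOpen_top _⟩, Scheme.IdealSheafData.ideal_bot, Pi.bot_apply,
        ← RingHom.injective_iff_ker_eq_bot]
      have := Scheme.ΓSpecIso_naturality c₀.g
      rw [← Iso.eq_comp_inv] at this
      change Function.Injective (Spec.map c₀.g).appTop.hom
      rw [this]
      exact ((ConcreteCategory.bijective_of_isIso (Scheme.ΓSpecIso Γ(Y, c₀.U)).inv).1.comp hαd).comp
        (ConcreteCategory.bijective_of_isIso (Scheme.ΓSpecIso c₀.ring).hom).1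
    have h : Function.Injective ((c₀.hU.fromSpec ≫ a).app (γ₁ ⁻¹ᵁ W)) := by
      rw [Pushout6.fromSpec_inl hC c₀, Scheme.Hom.comp_app]
      haveI := (Pushout6.chartι c₀).isIso_app (γ₁ ⁻¹ᵁ W) hO₀.le
      exact ((Spec.map c₀.g).app_injective _).comp
        (ConcreteCategory.bijective_of_isIso ((Pushout6.chartι c₀).app (γ₁ ⁻¹ᵁ W))).1
    rw [Scheme.Hom.comp_app] at h
    exact Function.Injective.of_comp (f := c₀.hU.fromSpec.app _) h
  -- away from the point
  have haway : ∀ V : X'.Opens, x ∉ V → IsIso (a ∣_ γ₁ ⁻¹ᵁ V) := by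
    intro V hV
    have hch : ∀ q : (γ₁ ⁻¹ᵁ V : Y₁.Opens), ∃ c : Pushout6.Chart i jS, c.V = ⊥ ∧
        Set.range (Pushout6.chartι c) ⊆ (γ₁ ⁻¹ᵁ V : Y₁.Opens) ∧ (q : Y₁) ∈ Set.range (Pushout6.chartι c) := by
      intro q
      rcases Pushout6.exists_inl_or_inr hC (q : Y₁) with ⟨y, hy⟩ | ⟨v, hv⟩
      · have hyV : y ∈ γ ⁻¹ᵁ V := by
          change γ y ∈ V
          rw [← haγ y]
          exact hy.symm ▸ q.2
        obtain ⟨U', hU', hyU', hU'V⟩ := exists_isAffineOpen_mem_and_subset (X := Y) (x := y) (U := γ ⁻¹ᵁ V) hyV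
        let c : Pushout6.Chart i jS :=
          { U := U', V := ⊥, hU := hU', hV := isAffineOpen_bot _
            trace := by
              rw [Scheme.Hom.preimage_bot, eq_bot_iff]
              intro z hz
              refine (hV ?_).elim
              have h1 : γ (i z) ∈ V := hU'V hz
              have h2 : γ (i z) = x := (congr($hiγ z)).trans (hkxpt _)
              exact h2 ▸ h1 }
        refine ⟨c, rfl, ?_, ?_⟩
        · rintro _ ⟨w, rfl⟩
          rcases c.surj w with ⟨u', rfl⟩ | ⟨v', rfl⟩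
          · rw [← Pushout6.inl_apply hC c]
            change γ₁ (a _) ∈ V
            rw [haγ]
            exact hU'V (c.hU.range_fromSpec.le ⟨u', rfl⟩)
          · exact ((c.hV.range_fromSpec.le ⟨v', rfl⟩ : c.hV.fromSpec v' ∈ (⊥ : Opens _))).elim
        · have h1 : y ∈ c.U := hyU'
          rw [← Pushout6.preimage_inl hC c] at h1
          exact hy ▸ h1
      · exact (hV (by rw [← hbγ v]; change γ₁ (Pushout6.inr hC v) ∈ V; rw [hv]; exact q.2)).elim
    choose c hcV hcr hcq using hch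
    let O := γ₁ ⁻¹ᵁ V
    have hf : ∀ q : O, Set.range (Pushout6.chartι (c q)) ⊆ Set.range O.ι := fun q => by
      rw [Scheme.Opens.range_ι]; exact hcr q
    let 𝒰 : (O : Scheme).OpenCover := Scheme.Cover.mkOfCovers (P := @IsOpenImmersion) O
      (fun q => (c q).W) (fun q => IsOpenImmersion.lift O.ι (Pushout6.chartι (c q)) (hf q))
      (fun q => by
        obtain ⟨w, hw⟩ := hcq q
        refine ⟨q, w, O.ι.isOpenEmbedding.injective ?_⟩
        rw [← Scheme.Hom.comp_apply, IsOpenImmersion.lift_fac]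
        exact hw)
      (fun q => IsOpenImmersion.of_comp _ O.ι)
    refine (IsZariskiLocalAtTarget.iff_of_openCover (P := MorphismProperty.isomorphisms Scheme) (f := a ∣_ O) 𝒰).mpr
      fun q => ?_
    let l := IsOpenImmersion.lift O.ι (Pushout6.chartι (c q)) (hf q)
    have hl : l ≫ O.ι = Pushout6.chartι (c q) := IsOpenImmersion.lift_fac _ _ _
    have hgiso : IsIso (c q).g := by
      rw [ConcreteCategory.isIso_iff_bijective]
      haveI : Subsingleton Γ(Spec (CommRingCat.of D.K), (c q).V) := by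
        rw [hcV q]
        exact CommRingCat.subsingleton_of_isTerminal (Spec (CommRingCat.of D.K)).sheaf.isTerminalOfEmpty
      haveI : Subsingleton Γ(Spec (CommRingCat.of Q), i ⁻¹ᵁ (c q).U) := by
        rw [(c q).trace, hcV q, Scheme.Hom.preimage_bot]
        exact CommRingCat.subsingleton_of_isTerminal (Spec (CommRingCat.of Q)).sheaf.isTerminalOfEmpty
      exact ⟨fun s t h => (c q).ext (Subsingleton.elim _ _) h,
        fun s => ⟨(c q).pair 0 s (Subsingleton.elim _ _), rfl⟩⟩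
    haveI : IsIso (c q).α := inferInstanceAs (IsIso (Spec.map (c q).g))
    have hpb : IsPullback (c q).α (c q).hU.fromSpec (Pushout6.chartι (c q)) a :=
      IsOpenImmersion.isPullback _ _ _ _ (Pushout6.fromSpec_inl hC (c q))
        (by rw [show a = Pushout6.inl hC from rfl, Pushout6.preimage_inl, (c q).hU.opensRange_fromSpec])
    change IsIso (pullback.snd (a ∣_ O) l)
    have hbig : IsPullback (pullback.snd (a ∣_ O) l) (pullback.fst (a ∣_ O) l ≫ (a ⁻¹ᵁ O).ι)
        (Pushout6.chartι (c q)) a := by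
      rw [← hl]
      exact (IsPullback.of_hasPullback (a ∣_ O) l).flip.paste_vert (isPullback_morphismRestrict a O)
    rw [← hbig.isoIsPullback_hom_fst _ _ hpb]
    infer_instance
  have hiso_app : ∀ V : X'.Opens, x ∉ V → IsIso (a.app (γ₁ ⁻¹ᵁ V)) := fun V hV => by
    haveI := haway V hV
    obtain ⟨V', hV'⟩ : ∃ V', (γ₁ ⁻¹ᵁ V).ι ''ᵁ V' = γ₁ ⁻¹ᵁ V :=
      ⟨⊤, by rw [Scheme.Hom.image_top_eq_opensRange, Scheme.Opens.opensRange_ι]⟩
    have h' : IsIso ((a ∣_ γ₁ ⁻¹ᵁ V).app V') := inferInstance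
    rw [morphismRestrict_app] at h'
    have h'' : IsIso (a.app ((γ₁ ⁻¹ᵁ V).ι ''ᵁ V')) := by
      refine @IsIso.of_isIso_comp_right _ _ _ _ _ _ _ ?_ h'
      infer_instance
    rwa [hV'] at h''
  -- finiteness
  have hres : ∀ V : X'.Opens, γ₁ ∣_ V = γ₁ ∣_ V := fun _ => rfl
  have hfac : ∀ V : X'.Opens, x ∉ V → ∀ (Pr : MorphismProperty Scheme.{u}) [Pr.RespectsIso],
      Pr (γ ∣_ V) → Pr (γ₁ ∣_ V) := by
    intro V hV Pr _ h
    haveI := haway V hV
    have e : γ ∣_ V = (Scheme.isoOfEq _ (by rw [← Scheme.Hom.comp_preimage, ha])).hom ≫ (a ∣_ γ₁ ⁻¹ᵁ V) ≫ (γ₁ ∣_ V) := by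
      rw [← cancel_mono V.ι]
      simp [morphismRestrict_ι, ha]
    rw [e, Pr.cancel_left_of_respectsIso, Pr.cancel_left_of_respectsIso] at h
    exact h
  let V' : X'.Opens := ⟨({x} : Set X')ᶜ, hxcl.isOpen_compl⟩
  have hV' : x ∉ V' := fun h => h rfl
  haveI hfin₁ : IsFinite γ₁ := by
    let T : Bool → X'.Opens := fun t => bif t then W else V'
    have hT : iSup T = ⊤ := by
      rw [eq_top_iff]
      intro y _
      rw [Opens.mem_iSup]
      by_cases hy : y = x
      · exact ⟨true, hy ▸ hxW⟩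
      · exact ⟨false, hy⟩
    refine (IsZariskiLocalAtTarget.iff_of_iSup_eq_top (P := @IsFinite) T hT).2 fun t => ?_
    cases t
    · exact hfac V' hV' @IsFinite (IsZariskiLocalAtTarget.restrict ‹IsFinite γ› _)
    · haveI : IsAffine ↑W := hW
      haveI : IsAffine ↑(γ₁ ⁻¹ᵁ W) := hO₀aff
      haveI : IsAffineHom (γ₁ ∣_ W) := inferInstance
      haveI : IsAffine ↑(T true) := hW
      refine (HasAffineProperty.iff_of_isAffine (P := @IsFinite)).2 ⟨hO₀aff, ?_⟩
      have hfinapp : (γ₁.app W).hom.Finite := by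
        letI : Algebra Γ(X', W) Γ(Y₁, γ₁ ⁻¹ᵁ W) := (γ₁.app W).hom.toAlgebra
        letI : Algebra Γ(X', W) Γ(Y, a ⁻¹ᵁ γ₁ ⁻¹ᵁ W) := ((a ≫ γ₁).app W).hom.toAlgebra
        haveI : Module.Finite Γ(X', W) Γ(Y, a ⁻¹ᵁ γ₁ ⁻¹ᵁ W) := by
          haveI : IsFinite (a ≫ γ₁) := ha.symm ▸ inferInstance
          exact IsFinite.finite_app (a ≫ γ₁) W hW
        let l : Γ(Y₁, γ₁ ⁻¹ᵁ W) →ₐ[Γ(X', W)] Γ(Y, a ⁻¹ᵁ γ₁ ⁻¹ᵁ W) :=
          ⟨(a.app (γ₁ ⁻¹ᵁ W)).hom, fun r => by
            change (γ₁.app W ≫ a.app _).hom r = ((a ≫ γ₁).app W).hom r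
            rw [Scheme.Hom.comp_app]
            rfl⟩
        exact Module.Finite.of_injective l.toLinearMap hainj
      have key : ∀ W₁, W₁ = W → (γ₁.app W₁).hom.Finite := fun W₁ h => by subst h; exact hfinapp
      change (γ₁ ∣_ W).appTop.hom.Finite
      rw [morphismRestrict_appTop, CommRingCat.hom_comp]
      exact RingHom.Finite.comp (RingHom.Finite.of_surjective _
        (ConcreteCategory.bijective_of_isIso (Y₁.presheaf.map
          (eqToHom (image_morphismRestrict_preimage γ₁ W ⊤)).op)).2) (key _ W.ι_image_top)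
  haveI : IsSchemeTheoreticallyDominant γ₁ := by
    rw [isSchemeTheoreticallyDominant_iff, ← le_bot_iff]
    refine (a.le_ker_comp γ₁).trans (le_of_eq ?_)
    rw [ha]
    exact γ.ker_eq_bot
  haveI : IsIso (γ₁ ∣_ U) := hfac U hxU (MorphismProperty.isomorphisms _) ‹IsIso (γ ∣_ U)›
  haveI hsurj : Surjective a := ⟨fun q => by
    rcases Pushout6.exists_inl_or_inr hC q with h | ⟨v, rfl⟩
    · exact h
    · obtain ⟨z, rfl⟩ := jS.surjective v
      exact ⟨i z, congr($(hpush.w) z)⟩⟩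
  -- the image lies in the maximal subalgebra
  have hnsurj : ¬ Function.Surjective (a.app (γ₁ ⁻¹ᵁ W)) := by
    intro hs
    let ψ := a.appLE (γ₁ ⁻¹ᵁ W) (γ ⁻¹ᵁ W) hpre.le
    have hψ : Function.Surjective ψ := by
      have e : ψ = a.app (γ₁ ⁻¹ᵁ W) ≫ Y.presheaf.map (eqToHom hpre).op := by
        rw [Scheme.Hom.app_eq_appLE, Scheme.Hom.appLE_map]
      rw [e]
      exact (ConcreteCategory.bijective_of_isIso (Y.presheaf.map (eqToHom hpre).op)).2.comp hs
    have hbr : Set.range b ⊆ Set.range hO₀aff.fromSpec := by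
      rintro _ ⟨v, rfl⟩
      rw [hO₀aff.range_fromSpec]
      exact show γ₁ (b v) ∈ W from (hbγ v).symm ▸ hxW
    let χ := Spec.preimage (IsOpenImmersion.lift hO₀aff.fromSpec b hbr)
    have hw : ψ ≫ mkJ = χ ≫ CommRingCat.ofHom D.toQ := by
      apply Spec.map_injective
      rw [← cancel_mono hO₀aff.fromSpec, Spec.map_comp, Spec.map_comp, Category.assoc, Category.assoc,
        Spec.map_preimage, IsOpenImmersion.lift_fac,
        hO₀aff.SpecMap_appLE_fromSpec a (hW.preimage γ)]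
      exact (Category.assoc _ _ _).symm.trans hpush.w
    refine D.ne_top (eq_top_iff.2 fun s _ => ?_)
    obtain ⟨t, rfl⟩ := hψ s
    exact D.mem_of_toQ _ (χ t) (congr($hw t)).symm
  refine ⟨Y₁, a, γ₁, ha, hfin₁, inferInstance, inferInstance, hsurj, hiso_app, hainj, hnsurj, ?_⟩
  letI : Algebra D.K Q := D.toQ.toAlgebra
  refine ⟨D.K, inferInstance, Q, inferInstance, inferInstance, D.isSimpleOrder rfl, i, b, inferInstance,
    inferInstance, hpush, ?_⟩
  rintro ⟨hinj, hresi⟩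
  haveI : IsNoetherianRing Γ(Y, γ ⁻¹ᵁ W) := IsNoetherianRing.of_finite Γ(X', W) _
  haveI : IsNoetherianRing Q := inferInstance
  have hi : HTop.ResidueFieldsIso i := fun z => by
    rw [ConcreteCategory.isIso_iff_bijective]
    refine ⟨RingHom.injective _, fun r => ?_⟩
    obtain ⟨r, rfl⟩ := Ideal.Quotient.mk_surjective r
    obtain ⟨s, hs⟩ := i.stalkMap_surjective z r
    exact ⟨IsLocalRing.residue _ s, by rw [← hs]; rfl⟩
  have hres' : HTop.ResidueFieldsIso jS := by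
    refine SN25.residueFieldsIso_of_comp jS kx ?_ ?_
    · rw [← hiγ]
      exact SN25.residueFieldsIso_comp _ _ hi hresi
    · exact SN25.residueFieldsIso_of_comp_surjective jS kx (by
        rw [← hiγ]
        exact SN25.residueFieldsIso_comp _ _ hi hresi)
  haveI : Subsingleton (PrimeSpectrum Q) := ⟨fun z z' => i.isClosedEmbedding.injective (hinj
    (((congr($hiγ z)).trans (hkxpt _)).trans ((congr($hiγ z')).trans (hkxpt _)).symm))⟩
  exact nonempty_dualNumber (D.isSimpleOrder rfl) ((SN25.residueFieldsIso_iff_trivRes).1 hres')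

end GrothLib.PrimeAlg2
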